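import Cfsg.Agent.McLEmb.Def

/-!
# The elementary abelian subgroup of a class under the embedding
-/

set_option autoImplicit false
set_option maxRecDepth 100000
set_option linter.unusedSectionVars false

namespace CfsgLib.McLEmb

open Subgroup CfsgLib.Coset CfsgLib.McLUniq

namespace Emb

variable {G : Type*} [Group G] {t : G} (Φ : Emb t) (c : Cl)

/-- The element of a vector. -/
noncomputable def e (v : Nat) : G := Φ.F (c.eW v)

/-- The element of a basis word. -/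
noncomputable def bel (i : Nat) : G := Φ.F (c.basis.getD i [])

/-- The elementary abelian group of a class, as a set. -/
def InE (g : G) : Prop := ∃ v, v < 16 ∧ g = Φ.e c v

/-- An element has the given action on the group of a class. -/
def IsMat (g : G) (X : Nat) : Prop := ∀ v, v < 16 → g * Φ.e c v * g⁻¹ = Φ.e c (apM X v)

theorem e_formula (v : Nat) : Φ.e c v = (if v.testBit 0 then Φ.bel c 0 else 1) *
    ((if v.testBit 1 then Φ.bel c 1 else 1) * ((if v.testBit 2 then Φ.bel c 2 else 1) *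
      (if v.testBit 3 then Φ.bel c 3 else 1))) := by
  have e : ∀ i, Φ.F (if Nat.beq ((v >>> i) &&& 1) 1 then c.basis.getD i [] else []) =
      if v.testBit i then Φ.bel c i else 1 := fun i => by
    rw [bit_eq]
    split
    · rfl
    · exact Φ.F_nil
  rw [Emb.e, Cl.eW, Φ.F_flatMap]
  simp only [List.range_succ, List.range_zero, List.map_append, List.map_cons, List.map_nil, List.nil_append,
    List.prod_append, List.prod_cons, List.prod_nil, mul_one, e, mul_assoc]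

variable {c} (hc : ClOK c)
include hc

theorem bel_zero : Φ.bel c 0 = t :=
  (Φ.F_congr (hc.basis_W6 0) Phi.tW_W6 hc.basis_facts.2.2.2.2.2.2.1).trans Φ.F_t

theorem bel_one : Φ.bel c 1 = Φ.s :=
  Φ.F_congr (hc.basis_W6 1) Phi.sW_W6 hc.basis_facts.2.2.2.2.2.2.2.1

theorem bel_sq {i : Nat} (hi : i < 4) : Φ.bel c i * Φ.bel c i = 1 := by
  rw [bel, ← F_append, Φ.F_congr ((hc.basis_W6 i).append (hc.basis_W6 i)) W6.nil
    (hc.basis_facts.2.2.2.2.2.2.2.2.1 i hi).1, F_nil]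

theorem bel_comm {i j : Nat} (hi : i < 4) (hj : j < 4) : Commute (Φ.bel c i) (Φ.bel c j) := by
  have key : ∀ i j, i < 4 → j < i → Commute (Φ.bel c i) (Φ.bel c j) := fun i j hi hj => by
    show Φ.bel c i * Φ.bel c j = Φ.bel c j * Φ.bel c i
    rw [bel, bel, ← F_append, ← F_append]
    exact Φ.F_congr ((hc.basis_W6 i).append (hc.basis_W6 j)) ((hc.basis_W6 j).append (hc.basis_W6 i))
      ((hc.basis_facts.2.2.2.2.2.2.2.2.1 i hi).2 j hj)
  rcases lt_trichotomy i j with h | rfl | h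
  · exact (key j i hj h).symm
  · exact Commute.refl _
  · exact key i j hi h

theorem e_add (v u : Nat) : Φ.e c (v ^^^ u) = Φ.e c v * Φ.e c u := by
  let q : Nat → Nat → G := fun i v => if v.testBit i then Φ.bel c i else 1
  have hq : ∀ i, i < 4 → q i (v ^^^ u) = q i v * q i u := fun i hi => by
    simp only [q, Nat.testBit_xor]
    cases v.testBit i <;> cases u.testBit i <;> simp [Φ.bel_sq hc hi]
  have hcm : ∀ i j w w', i < 4 → j < 4 → Commute (q i w) (q j w') := fun i j w w' hi hj => by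
    simp only [q]
    split <;> split <;> first | exact Commute.one_left _ | exact Commute.one_right _ | exact Φ.bel_comm hc hi hj
  rw [e_formula, e_formula, e_formula]
  change q 0 (v ^^^ u) * (q 1 (v ^^^ u) * (q 2 (v ^^^ u) * q 3 (v ^^^ u))) =
    q 0 v * (q 1 v * (q 2 v * q 3 v)) * (q 0 u * (q 1 u * (q 2 u * q 3 u)))
  rw [hq 0 (by norm_num), hq 1 (by norm_num), hq 2 (by norm_num), hq 3 (by norm_num),
    (hcm 2 3 u v (by norm_num) (by norm_num)).mul_mul_mul_comm (q 2 v) (q 3 u),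
    (((hcm 1 2 u v (by norm_num) (by norm_num)).mul_right (hcm 1 3 u v (by norm_num) (by norm_num)))).mul_mul_mul_comm
      (q 1 v) (q 2 u * q 3 u),
    ((hcm 0 1 u v (by norm_num) (by norm_num)).mul_right ((hcm 0 2 u v (by norm_num) (by norm_num)).mul_right
      (hcm 0 3 u v (by norm_num) (by norm_num)))).mul_mul_mul_comm (q 0 v) (q 1 u * (q 2 u * q 3 u))]

theorem e_zero : Φ.e c 0 = 1 := by
  rw [e_formula]; simp

theorem e_sq (v : Nat) : Φ.e c v * Φ.e c v = 1 := by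
  rw [← Φ.e_add hc, Nat.xor_self, Φ.e_zero hc]

theorem e_inv (v : Nat) : (Φ.e c v)⁻¹ = Φ.e c v := inv_eq_of_mul_eq_one_right (Φ.e_sq hc v)

theorem e_comm (v u : Nat) : Φ.e c v * Φ.e c u = Φ.e c u * Φ.e c v := by
  rw [← Φ.e_add hc, ← Φ.e_add hc, Nat.xor_comm]

theorem e_one : Φ.e c 1 = t := by
  rw [e_formula]; simp [Φ.bel_zero hc, Nat.testBit, Nat.shiftRight_eq_div_pow]

theorem e_two : Φ.e c 2 = Φ.s := by
  rw [e_formula]; simp [Φ.bel_one hc, Nat.testBit, Nat.shiftRight_eq_div_pow]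

theorem e_pow (i : Nat) (hi : i < 4) : Φ.e c (2 ^ i) = Φ.bel c i := by
  rw [e_formula]
  interval_cases i <;> simp [Nat.testBit, Nat.shiftRight_eq_div_pow]

theorem e_eq_one {v : Nat} (hv : v < 16) (h : Φ.e c v = 1) : v = 0 := by
  refine hc.eW_free hv ?_
  have := appN_eq_of_ev ((Φ.F_eq_iff (hc.eW_W6 v) W6.nil).1 (h.trans Φ.F_nil.symm)) hc.basis_facts.2.2.2.2.1
  exact this

theorem e_inj {v u : Nat} (hv : v < 16) (hu : u < 16) (h : Φ.e c v = Φ.e c u) : v = u := by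
  have h0 : v ^^^ u = 0 := Φ.e_eq_one hc (Nat.xor_lt_two_pow (n := 4) hv hu)
    (by rw [Φ.e_add hc, h, Φ.e_sq hc])
  exact Nat.xor_eq_zero_iff.1 h0

theorem e_mem (v : Nat) : Φ.e c v ∈ centralizer ({t} : Set G) := Φ.F_mem (hc.eW_W6 v)

theorem InE.mem {g : G} (h : Φ.InE c g) : g ∈ centralizer ({t} : Set G) := by
  obtain ⟨v, -, rfl⟩ := h
  exact Φ.e_mem hc v

theorem isMat_one : Φ.IsMat c 1 idM := fun v hv => by rw [apM_idM hv]; simp

theorem isMat_e (u : Nat) : Φ.IsMat c (Φ.e c u) idM := fun v hv => by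
  rw [apM_idM hv, Φ.e_comm hc, mul_inv_cancel_right]

theorem IsMat.mul {g h : G} {X Y : Nat} (hg : Φ.IsMat c g X) (hh : Φ.IsMat c h Y) :
    Φ.IsMat c (g * h) (mulM X Y) := fun v hv => by
  rw [apM_mulM, ← hg _ (apM_lt Y v), ← hh v hv]
  group

theorem IsMat.unique {g : G} {X Y : Nat} (hX : X < 65536) (hY : Y < 65536) (h : Φ.IsMat c g X)
    (h' : Φ.IsMat c g Y) : X = Y :=
  code_ext hX hY fun v hv => Φ.e_inj hc (apM_lt _ _) (apM_lt _ _) ((h v hv).symm.trans (h' v hv))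

theorem isMat_of_basis {g : G} {X : Nat}
    (h : ∀ i, i < 4 → g * Φ.bel c i * g⁻¹ = Φ.e c (colM X i)) : Φ.IsMat c g X := fun v hv => by
  have hp : ∀ i, i < 4 → g * Φ.e c (pickB v i (2 ^ i)) * g⁻¹ = Φ.e c (pickB v i (colM X i)) := fun i hi => by
    rw [pickB_eq, pickB_eq]
    split
    · rw [Φ.e_pow hc i hi, h i hi]
    · rw [Φ.e_zero hc]; group
  have e0 := hp 0 (by norm_num); have e1 := hp 1 (by norm_num)
  have e2 := hp 2 (by norm_num); have e3 := hp 3 (by norm_num)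
  norm_num at e0 e1 e2 e3
  conv_lhs => rw [vec_pick v hv]
  rw [apM, Φ.e_add hc, Φ.e_add hc, Φ.e_add hc, Φ.e_add hc, Φ.e_add hc, Φ.e_add hc, ← e0, ← e1, ← e2, ← e3]
  group

theorem exists_mat {g : G} (h : ∀ v, v < 16 → Φ.InE c (g * Φ.e c v * g⁻¹)) :
    ∃ X, X < 65536 ∧ Φ.IsMat c g X := by
  obtain ⟨a, ha, ea⟩ := h (2 ^ 0) (by norm_num)
  obtain ⟨b, hb, eb⟩ := h (2 ^ 1) (by norm_num)
  obtain ⟨x, hx, ex⟩ := h (2 ^ 2) (by norm_num)
  obtain ⟨d, hd, ed⟩ := h (2 ^ 3) (by norm_num)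
  obtain ⟨h0, h1, h2, h3⟩ := colM_code ha hb hx hd
  refine ⟨a + 16 * b + 256 * x + 4096 * d, by omega, Φ.isMat_of_basis hc fun i hi => ?_⟩
  rw [← Φ.e_pow hc i hi]
  interval_cases i
  · rw [h0]; exact ea
  · rw [h1]; exact eb
  · rw [h2]; exact ex
  · rw [h3]; exact ed

theorem gens_mat : Φ.IsMat c (Φ.F c.aW) (c.gens.getD 0 idM) ∧ Φ.IsMat c (Φ.F c.bW) (c.gens.getD 1 idM) := by
  have h := hc.actT
  simp only [Cl.actOK, Bool.and_eq_true, List.all_eq_true, List.mem_range] at h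
  have key : ∀ w, W6 w → ∀ X, (∀ i < 4, eqW (w ++ c.basis.getD i []) (c.eW (colM X i) ++ w) = true) →
      Φ.IsMat c (Φ.F w) X := fun w hw X hX => Φ.isMat_of_basis hc fun i hi => by
    have e := Φ.F_congr (hw.append (hc.basis_W6 i)) ((hc.eW_W6 _).append hw) (hX i hi)
    rw [F_append, F_append] at e
    rw [bel, e, mul_inv_cancel_right]
    rfl
  exact ⟨key _ hc.aW_W6 _ fun i hi => (h.2 i hi).1, key _ hc.bW_W6 _ fun i hi => (h.2 i hi).2⟩

theorem isMat_sub2 : ∀ wd : List Nat, Cl.inL wd = true → Φ.IsMat c (Φ.F (c.sub2 wd)) (c.mat2 wd)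
  | [], _ => by simpa [Cl.sub2, Φ.F_nil, mat2_nil] using Φ.isMat_one hc
  | a :: wd, h => by
    simp only [Cl.inL, List.all_cons, Bool.and_eq_true, decide_eq_true_eq] at h
    have ih := isMat_sub2 wd (by simpa [Cl.inL] using h.2)
    have e : c.sub2 (a :: wd) = (if Nat.beq a 0 then c.aW else c.bW) ++ c.sub2 wd := by simp [Cl.sub2]
    rw [e, F_append, mat2_cons]
    refine IsMat.mul Φ hc ?_ ih
    obtain ⟨hA, hB⟩ := Φ.gens_mat hc
    have ha2 : a < 2 := h.1
    interval_cases a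
    · simpa using hA
    · simpa using hB

variable (c) in
/-- An element with the given pair, the complement part a word in the two generators. -/
def Pair (g : G) (p : Nat × Nat) : Prop :=
  p.1 < 16 ∧ ∃ wd, Cl.inL wd = true ∧ p.2 = c.mat2 wd ∧ g = Φ.e c p.1 * Φ.F (c.sub2 wd)

theorem Pair.isMat {g : G} {p : Nat × Nat} (h : Φ.Pair c g p) : Φ.IsMat c g p.2 := by
  obtain ⟨-, wd, hwd, e, rfl⟩ := h
  rw [e]
  have := IsMat.mul Φ hc (Φ.isMat_e hc p.1) (Φ.isMat_sub2 hc wd hwd)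
  intro v hv
  rw [this v hv, apM_mulM, apM_idM (apM_lt _ _)]

theorem Pair.mem {g : G} {p : Nat × Nat} (h : Φ.Pair c g p) : g ∈ centralizer ({t} : Set G) := by
  obtain ⟨-, wd, -, -, rfl⟩ := h
  exact mul_mem (Φ.e_mem hc _) (Φ.F_mem (hc.sub2_W6 _))

theorem Pair.lt {g : G} {p : Nat × Nat} (h : Φ.Pair c g p) : p.2 < 65536 := by
  obtain ⟨-, wd, -, e, -⟩ := h
  exact e ▸ mat2_lt c wd

theorem Pair.unique {g : G} {p q : Nat × Nat} (h : Φ.Pair c g p) (h' : Φ.Pair c g q) : p = q := by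
  refine Prod.ext ?_ (IsMat.unique Φ hc (Pair.lt Φ hc h) (Pair.lt Φ hc h') (Pair.isMat Φ hc h)
    (Pair.isMat Φ hc h'))
  obtain ⟨hp, wd, -, -, e⟩ := h
  obtain ⟨hq, wd', -, -, e'⟩ := h'
  have e2 : Φ.F (c.eW (p.1 ^^^ q.1) ++ c.sub2 wd) = Φ.F (c.sub2 wd') := by
    rw [F_append]
    change Φ.e c (p.1 ^^^ q.1) * _ = _
    rw [Nat.xor_comm, Φ.e_add hc, mul_assoc, ← e, e', ← mul_assoc, Φ.e_sq hc, one_mul]
  have e3 := appN_eq_of_ev ((Φ.F_eq_iff ((hc.eW_W6 _).append (hc.sub2_W6 _)) (hc.sub2_W6 _)).1 e2)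
    hc.basis_facts.2.2.2.2.1
  rw [hc.sub2_pt, appN, List.foldr_append] at e3
  change appN _ (appN (c.sub2 wd) c.pt) = c.pt at e3
  rw [hc.sub2_pt] at e3
  exact Nat.xor_eq_zero_iff.1 (hc.eW_free (Nat.xor_lt_two_pow (n := 4) hp hq) e3)

theorem pair_one : Φ.Pair c 1 (0, idM) :=
  ⟨by norm_num, [], rfl, rfl, by simp [Φ.e_zero hc, Cl.sub2, Φ.F_nil]⟩

theorem Pair.mul {g h : G} {p q : Nat × Nat} (hg : Φ.Pair c g p) (hh : Φ.Pair c h q) :
    Φ.Pair c (g * h) (pmul p q) := by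
  obtain ⟨hp, wd, hwd, ep, rfl⟩ := hg
  obtain ⟨hq, wd', hwd', eq', rfl⟩ := hh
  refine ⟨Nat.xor_lt_two_pow (n := 4) hp (apM_lt _ _), wd ++ wd', ?_, ?_, ?_⟩
  · simp only [Cl.inL, List.all_append, Bool.and_eq_true] at *
    exact ⟨hwd, hwd'⟩
  · have hm : ∀ u, mulM (c.mat2 u) (c.mat2 wd') = c.mat2 (u ++ wd') := by
      intro u
      induction u with
      | nil =>
        rw [mat2_nil]
        exact code_ext (mulM_lt _ _) (mat2_lt _ _) fun v _ => by
          rw [apM_mulM, apM_idM (apM_lt _ _), List.nil_append]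
      | cons a u ih =>
        rw [List.cons_append, mat2_cons, mat2_cons, ← ih]
        exact code_ext (mulM_lt _ _) (mulM_lt _ _) fun v _ => by simp only [apM_mulM]
    rw [pmul, ep, eq', hm]
  · have e : c.sub2 (wd ++ wd') = c.sub2 wd ++ c.sub2 wd' := by simp [Cl.sub2]
    have hm := (Φ.isMat_sub2 hc wd hwd) q.1 hq
    rw [pmul, e, F_append, Φ.e_add hc, ep, ← hm]
    group

theorem pair_letter {l : Nat} (hl : l ∈ ([0, 1, 2, 3, c.al] : List Nat)) : Φ.Pair c (Φ.F [l]) (c.letP l) := by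
  obtain ⟨hex, hall, -, -⟩ := hc.lets_facts
  obtain ⟨e0, he0, hel⟩ := hex l hl
  have h6 : l ≠ 6 := by have := (hall e0 he0).1; omega
  obtain ⟨e, hf⟩ : ∃ e, c.lets.find? (fun e => Nat.beq e.1 l) = some e :=
    Option.isSome_iff_exists.1 (List.find?_isSome.2 ⟨e0, he0, by simp [hel]⟩)
  have hme := List.mem_of_find?_eq_some hf
  have hle : e.1 = l := Nat.eq_of_beq_eq_true (List.find?_some (p := fun e : Nat × Nat × List Nat => Nat.beq e.1 l) hf)
  obtain ⟨h1, h2, h3, h4⟩ := hall e hme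
  have hb : Nat.beq l 6 = false := by
    cases hh : Nat.beq l 6
    · rfl
    · exact absurd (Nat.eq_of_beq_eq_true hh) h6
  rw [Cl.letP, hb, hf]
  refine ⟨h2, e.2.2, h3, rfl, ?_⟩
  have := Φ.F_congr (fun k hk => by rw [List.mem_singleton.1 hk]; exact h1)
    ((hc.eW_W6 _).append (hc.sub2_W6 _)) h4
  rw [F_append, hle] at this
  exact this

/-- A word in the letters of the stabilizer has the pair of the pair evaluation. -/
theorem pair_word : ∀ w : List Nat, (∀ l ∈ w, l ∈ ([0, 1, 2, 3, c.al] : List Nat)) →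
    Φ.Pair c (Φ.F w) (c.pev w)
  | [], _ => by rw [Φ.F_nil]; exact Φ.pair_one hc
  | l :: w, h => by
    rw [Φ.F_cons]
    exact Pair.mul Φ hc (Φ.pair_letter hc (h l List.mem_cons_self))
      (pair_word w fun k hk => h k (List.mem_cons_of_mem _ hk))

end Emb

end CfsgLib.McLEmb
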