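import Cfsg.Agent.McLEmb.Main

/-!
# One last letter for both classes
-/

set_option autoImplicit false
set_option maxRecDepth 100000
set_option linter.unusedSectionVars false

namespace CfsgLib.McLEmb

open Subgroup CfsgLib.Coset CfsgLib.McLUniq

namespace Emb

/-- One element completes the six letters to a solution of the relators of both classes. -/
theorem exists_both {G : Type*} [Group G] [Finite G] {t : G} (Φ : Emb t) (hone : Big Φ one) (htwo : Big Φ two)
    (hcent : ∀ g, Commute g t → Commute g Φ.s →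
      (∀ i, i < dImg.length → Commute g (Φ.F (dImg.getD i []))) → g = 1 ∨ g = t ∨ g = Φ.s ∨ g = t * Φ.s)
    {a b : G} (ha : ∀ v, v < 16 → Φ.InE one (a * Φ.e one v * a⁻¹)) (hat : a * t * a⁻¹ = Φ.s)
    (has : a * Φ.s * a⁻¹ = t) (hb : ∀ v, v < 16 → Φ.InE two (b * Φ.e two v * b⁻¹))
    (hbt : b * t * b⁻¹ = Φ.s) (hbs : b * Φ.s * b⁻¹ = t) :
    ∃ w : G, (∀ r ∈ relsM ++ relsN, ev (Φ.LG ++ [w]) r = 1) ∧ w * w = 1 ∧ w * t * w⁻¹ = Φ.s ∧
      w * Φ.s * w⁻¹ = t ∧ (∀ v, v < 16 → w * Φ.e one v * w⁻¹ = Φ.e one (apM one.xw v)) ∧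
      ∀ i, i < dGen.length → w * Φ.F (dGen.getD i []) * w = Φ.F (dImg.getD i []) := by
  obtain ⟨w1, r1, q1, a1', b1', m1, c1⟩ := Φ.exists_letter_one hone ha hat has
  obtain ⟨w2, r2, q2, a2', b2', -, c2⟩ := Φ.exists_letter_two htwo hb hbt hbs
  have i1 : w1⁻¹ = w1 := inv_eq_of_mul_eq_one_right q1
  have i2 : w2⁻¹ = w2 := inv_eq_of_mul_eq_one_right q2
  have a1 : w1 * t * w1 = Φ.s := by rw [i1] at a1'; exact a1'
  have b1 : w1 * Φ.s * w1 = t := by rw [i1] at b1'; exact b1'
  have a2 : w2 * t * w2 = Φ.s := by rw [i2] at a2'; exact a2'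
  have b2 : w2 * Φ.s * w2 = t := by rw [i2] at b2'; exact b2'
  set u := w2 * w1 with hu
  have hut : u * t = t * u := by
    calc w2 * w1 * t = w2 * (w1 * t * w1) * w1 := by simp only [mul_assoc, q1, mul_one]
      _ = w2 * Φ.s * w2 * (w2 * w1) := by rw [a1]; simp only [mul_assoc, ← mul_assoc w2 w2, q2, one_mul]
      _ = t * (w2 * w1) := by rw [b2]
  have hus : u * Φ.s = Φ.s * u := by
    calc w2 * w1 * Φ.s = w2 * (w1 * Φ.s * w1) * w1 := by simp only [mul_assoc, q1, mul_one]
      _ = w2 * t * w2 * (w2 * w1) := by rw [b1]; simp only [mul_assoc, ← mul_assoc w2 w2, q2, one_mul]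
      _ = Φ.s * (w2 * w1) := by rw [a2]
  have hlen : dGen.length = dImg.length := rfl
  have hud : ∀ i, i < dImg.length → Commute u (Φ.F (dImg.getD i [])) := fun i hi => by
    have k1 := c1 i (hlen ▸ hi)
    have k2 := c2 i (hlen ▸ hi)
    show u * _ = _ * u
    rw [hu]
    conv_lhs => rw [← k1]
    conv_rhs => rw [← k2]
    simp only [mul_assoc, ← mul_assoc w1 w1, ← mul_assoc w2 w2, q1, q2, one_mul, mul_one]
  have hw2 : w2 = u * w1 := by rw [hu, mul_assoc, q1, mul_one]
  have tt : t * t = 1 := by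
    have h := Φ.e_sq oneOK 1
    rwa [Φ.e_one oneOK] at h
  have ss : Φ.s * Φ.s = 1 := by
    have h := Φ.e_sq oneOK 2
    rwa [Φ.e_two oneOK] at h
  have hts : Φ.s ≠ t := fun e => by
    have := Φ.e_inj oneOK (v := 2) (u := 1) (by norm_num) (by norm_num)
      (by rw [Φ.e_one oneOK, Φ.e_two oneOK, e])
    omega
  have key : w2 = w1 ∨ t * w2 * t = w1 := by
    rcases hcent u hut hus hud with e | e | e | e
    · exact Or.inl (by rw [hw2, e, one_mul])
    · exfalso
      rw [hw2, e] at q2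
      refine hts ?_
      calc Φ.s = t * (t * Φ.s) := by rw [← mul_assoc, tt, one_mul]
        _ = t * (t * w1 * (t * w1)) := by
          conv_lhs => rw [← a1]
          simp only [mul_assoc]
        _ = t := by rw [q2, mul_one]
    · exfalso
      rw [hw2, e] at q2
      refine hts ?_
      calc Φ.s = Φ.s * (Φ.s * w1 * (Φ.s * w1)) := by rw [q2, mul_one]
        _ = Φ.s * Φ.s * (w1 * Φ.s * w1) := by simp only [mul_assoc]
        _ = t := by rw [ss, one_mul, b1]
    · right
      rw [hw2, e]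
      have sw : Φ.s * w1 = w1 * t := by rw [← a1, mul_assoc, q1, mul_one]
      calc t * (t * Φ.s * w1) * t = (t * t) * (Φ.s * w1) * t := by simp only [mul_assoc]
        _ = w1 := by rw [tt, one_mul, sw, mul_assoc, tt, mul_one]
  have conjEv : ∀ r : List Nat, ev (Φ.LG ++ [t * w2 * t]) r = t * ev (Φ.LG ++ [w2]) r * t := by
    intro r
    induction r with
    | nil => rw [ev_nil, ev_nil, mul_one, tt]
    | cons l r ih =>
      rw [ev_cons, ev_cons, ih]
      have hl : fl (Φ.LG ++ [t * w2 * t]) l = t * fl (Φ.LG ++ [w2]) l * t := by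
        rcases lt_trichotomy l 6 with h | rfl | h
        · rw [Φ.fl_append_lt h, Φ.fl_append_lt h]
          have := mem_centralizer_singleton_iff.1 (Φ.F_mem (w := [l]) fun k hk => by
            rw [List.mem_singleton.1 hk]; exact h)
          rw [← this, mul_assoc, tt, mul_one]
        · rw [Φ.fl_append_six, Φ.fl_append_six]
        · rw [fl_of_le _ (by simp [Φ.LG_len]; omega), fl_of_le _ (by simp [Φ.LG_len]; omega), mul_one, tt]
      rw [hl]
      simp only [mul_assoc, ← mul_assoc t t, tt, one_mul]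
  refine ⟨w1, fun r hr => ?_, q1, a1', b1', m1, c1⟩
  rcases List.mem_append.1 hr with h | h
  · exact r1 r h
  · rcases key with e | e
    · rw [← e]; exact r2 r h
    · rw [← e, conjEv, r2 r h, mul_one, tt]

end Emb

end CfsgLib.McLEmb
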