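import Cfsg.Agent.McLEmb.Normal

/-!
# The stabilizer of two vectors realized by a few elements
-/

set_option autoImplicit false
set_option maxRecDepth 100000
set_option linter.unusedSectionVars false

namespace CfsgLib.McLEmb

open Subgroup CfsgLib.Coset CfsgLib.McLUniq

/-- Add the members not present yet. -/
def addNew : List Nat → List Nat → List Nat
  | [], S => S
  | X :: T, S => if S.any (Nat.beq X) then addNew T S else addNew T (X :: S)

/-- The products of length at most `n` in the matrices. -/
def prodSet (ms : List Nat) : Nat → List Nat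
  | 0 => [idM]
  | n + 1 =>
    let S := prodSet ms n
    addNew (S.flatMap fun X => ms.map fun g => mulM g X) S

/-- Every regular matrix fixing the first two vectors is a product of the given ones. -/
def realOK (ms : List Nat) (n : Nat) : Bool :=
  let S := prodSet ms n
  (List.range 256).all fun r =>
    let M := 1 + 16 * 2 + 256 * r
    ((List.range 16).any fun v => !Nat.beq v 0 && Nat.beq (apM M v) 0) || S.any (Nat.beq M)

theorem mem_addNew : ∀ {T S : List Nat} {X : Nat}, X ∈ addNew T S → X ∈ T ∨ X ∈ S
  | [], _, _, h => Or.inr h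
  | Y :: T, S, X, h => by
    rw [addNew] at h
    split at h
    · exact (mem_addNew h).imp_left (List.mem_cons_of_mem _)
    · rcases mem_addNew h with h' | h'
      · exact Or.inl (List.mem_cons_of_mem _ h')
      · rcases List.mem_cons.1 h' with rfl | h''
        · exact Or.inl List.mem_cons_self
        · exact Or.inr h''

namespace Emb

variable {G : Type*} [Group G] [Finite G] {t : G} (Φ : Emb t) {c : Cl} (hc : ClOK c)
include hc

/-- The hypothesis `Big.real` from finitely many elements. -/
theorem real_of_gens {ms : List Nat} {n : Nat} (hreal : ∀ g ∈ ms, ∃ k, Commute k t ∧ Φ.IsMat c k g)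
    (hok : realOK ms n = true) (M : Nat) (hM : M < 65536) (h1 : apM M 1 = 1) (h2 : apM M 2 = 2)
    (hns : ∀ v, v < 16 → apM M v = 0 → v = 0) : ∃ k, Commute k t ∧ Φ.IsMat c k M := by
  have hS : ∀ n, ∀ X ∈ prodSet ms n, ∃ k, Commute k t ∧ Φ.IsMat c k X := by
    intro n
    induction n with
    | zero =>
      intro X hX
      rw [prodSet, List.mem_singleton] at hX
      exact ⟨1, Commute.one_left _, hX ▸ Φ.isMat_one hc⟩
    | succ n ih =>
      intro X hX
      rcases mem_addNew hX with h | h
      · obtain ⟨Y, hY, hg⟩ := List.mem_flatMap.1 h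
        obtain ⟨g, hgm, rfl⟩ := List.mem_map.1 hg
        obtain ⟨k, hkt, hk⟩ := ih Y hY
        obtain ⟨k', hkt', hk'⟩ := hreal g hgm
        exact ⟨k' * k, hkt'.mul_left hkt, IsMat.mul Φ hc hk' hk⟩
      · exact ih X h
  have c0 : colM M 0 = 1 := by rw [← (apM_basis M).1]; exact h1
  have c1 : colM M 1 = 2 := by rw [← (apM_basis M).2.1]; exact h2
  have hMeq : M = 1 + 16 * 2 + 256 * (M / 256) := by
    rw [colM_eq] at c0 c1
    norm_num at c0 c1
    omega
  have hh := List.all_eq_true.1 hok (M / 256) (List.mem_range.2 (by omega))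
  simp only [← hMeq, Bool.or_eq_true, List.any_eq_true, List.mem_range, Bool.and_eq_true,
    Bool.not_eq_true', Nat.beq_eq] at hh
  rcases hh with ⟨v, hv, hv0, hv1⟩ | ⟨X, hX, rfl⟩
  · exfalso
    rw [hns v hv hv1] at hv0
    simp at hv0
  · exact hS n _ hX

end Emb

end CfsgLib.McLEmb
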