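import Cfsg.Agent.McLUniq.Classes

/-!
# Fifteen cosets of the matrix group of the complement
-/

set_option autoImplicit false
set_option maxRecDepth 100000
set_option Elab.async false

namespace CfsgLib.McLUniq

/-- A matrix of the group generated by the complement and the last letter with the given first column. -/
def Cl.repM (c : Cl) (v : Nat) : Nat :=
  if Nat.beq v 1 then idM else
    match c.lbar.find? (fun e => Nat.beq (apM e.1 2) v) with
    | some e => mulM e.1 c.xw
    | none => idM

/-- The union of the fifteen cosets is closed under the three generators. -/
def Cl.closedOK (c : Cl) : Bool :=
  (List.range 16).all fun v => Nat.beq v 0 ||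
    (Nat.beq (apM (c.repM v) 1) v &&
      [c.gens.getD 0 idM, c.gens.getD 1 idM, c.xw].all fun g =>
        let X := mulM g (c.repM v)
        c.lbar.any fun e => Nat.beq (mulM (c.repM (apM X 1)) e.1) X)

theorem one_closed : one.closedOK = true := by decide +kernel
theorem two_closed : two.closedOK = true := by decide +kernel

end CfsgLib.McLUniq
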