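import Cfsg.Agent.McLUniq.HFacts
import Cfsg.Agent.McLUniq.Classes

/-!
# The six letters of the McLaughlin group embedded in the centralizer of an involution
-/

set_option autoImplicit false
set_option maxRecDepth 100000
set_option linter.unusedSectionVars false

namespace CfsgLib.McLEmb

open Subgroup CfsgLib.Coset CfsgLib.McLUniq

/-- An embedding of the double cover in the centralizer of an involution, the central involution going
to this involution. -/
structure Emb {G : Type*} [Group G] (t : G) where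
  /-- The map. -/
  f : ↥(subH L0) →* G
  inj : Function.Injective f
  le : ∀ p, f p ∈ centralizer ({t} : Set G)
  t_eq : ∀ h, f ⟨ev L0 tW, h⟩ = t

namespace Emb

variable {G : Type*} [Group G] {t : G} (Φ : Emb t)

/-- The six letters in the group. -/
noncomputable def LG : List G :=
  List.ofFn fun l : Fin 6 => Φ.f ⟨fl L0 l.val, fl_mem_subH l.2⟩

/-- A word in the group. -/
noncomputable def F (w : List Nat) : G := ev Φ.LG w

theorem LG_len : Φ.LG.length = 6 := by simp [LG]

theorem fl_LG {l : Nat} (hl : l < 6) : fl Φ.LG l = Φ.f ⟨fl L0 l, fl_mem_subH hl⟩ := by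
  rw [fl, List.getD_eq_getElem _ _ (by rw [Φ.LG_len]; exact hl)]
  unfold LG
  rw [List.getElem_ofFn]

theorem F_eq {w : List Nat} (hw : W6 w) : Φ.F w = Φ.f ⟨ev L0 w, mem_subH hw⟩ := by
  induction w with
  | nil =>
    show ev Φ.LG [] = _
    rw [ev_nil]
    exact (map_one Φ.f).symm
  | cons l w ih =>
    have hl : l < 6 := hw l List.mem_cons_self
    have hw' : W6 w := fun k hk => hw k (List.mem_cons_of_mem _ hk)
    have := ih hw'
    show ev Φ.LG (l :: w) = _
    rw [ev_cons, Φ.fl_LG hl]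
    show _ * Φ.F w = _
    rw [this, ← map_mul]
    rfl

theorem F_eq_iff {u w : List Nat} (hu : W6 u) (hw : W6 w) : Φ.F u = Φ.F w ↔ ev L0 u = ev L0 w := by
  rw [Φ.F_eq hu, Φ.F_eq hw, Φ.inj.eq_iff, Subtype.mk_eq_mk]

theorem F_congr {u w : List Nat} (hu : W6 u) (hw : W6 w) (h : eqW u w = true) : Φ.F u = Φ.F w :=
  (Φ.F_eq_iff hu hw).2 (ev_eq_of_eqW h)

theorem F_nil : Φ.F [] = 1 := ev_nil _

theorem F_append (u w : List Nat) : Φ.F (u ++ w) = Φ.F u * Φ.F w := ev_append _ _ _

theorem F_cons (l : Nat) (w : List Nat) : Φ.F (l :: w) = Φ.F [l] * Φ.F w := by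
  simp [F, ev_cons]

theorem F_flatMap (f : Nat → List Nat) (v : List Nat) :
    Φ.F (v.flatMap f) = (v.map fun i => Φ.F (f i)).prod := ev_flatMap _ _ _

theorem F_invW {w : List Nat} (hw : W6 w) : Φ.F (invW w) = (Φ.F w)⁻¹ := by
  refine eq_inv_of_mul_eq_one_left ?_
  rw [← F_append, ← Φ.F_nil, Φ.F_eq_iff (hw.invW.append hw) W6.nil, ev_append, ev_invW, ev_nil,
    inv_mul_cancel]

theorem F_mem {w : List Nat} (hw : W6 w) : Φ.F w ∈ centralizer ({t} : Set G) := by
  rw [Φ.F_eq hw]
  exact Φ.le _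

theorem F_t : Φ.F tW = t := by
  rw [Φ.F_eq Phi.tW_W6]
  exact Φ.t_eq _

/-- The second involution. -/
noncomputable def s : G := Φ.F sW

end Emb

end CfsgLib.McLEmb
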