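import Cfsg.Agent.McLEmb.Normal

/-!
# The subgroup generated by the elementary group, the complement and the new element
-/

set_option autoImplicit false
set_option maxRecDepth 100000
set_option linter.unusedSectionVars false

namespace CfsgLib.McLEmb

open Subgroup CfsgLib.Coset CfsgLib.McLUniq

namespace Emb

variable {G : Type*} [Group G] [Finite G] {t : G} (Φ : Emb t) {c : Cl} (hc : ClOK c)

variable (c) in
/-- The subgroup generated by the elementary group, the two generators and one more element. -/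
noncomputable def genN (g : G) : Subgroup G :=
  Subgroup.closure ({x | Φ.InE c x} ∪ {Φ.F c.aW, Φ.F c.bW, g})

variable (c) in
theorem sub2_genN (g : G) : ∀ wd : List Nat, Φ.F (c.sub2 wd) ∈ Φ.genN c g
  | [] => by
    have e : Φ.F (c.sub2 []) = 1 := Φ.F_nil
    rw [e]; exact one_mem _
  | a :: wd => by
    have e : c.sub2 (a :: wd) = (if Nat.beq a 0 then c.aW else c.bW) ++ c.sub2 wd := by simp [Cl.sub2]
    rw [e, F_append]
    refine mul_mem ?_ (sub2_genN g wd)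
    split <;> exact Subgroup.subset_closure (Or.inr (by simp))

variable (c) in
theorem self_genN (g : G) : g ∈ Φ.genN c g := Subgroup.subset_closure (Or.inr (by simp))

include hc

theorem e_genN (g : G) {v : Nat} (hv : v < 16) : Φ.e c v ∈ Φ.genN c g :=
  Subgroup.subset_closure (Or.inl ⟨v, hv, rfl⟩)

theorem conj_t {g : G} (hg : Φ.IsMat c g c.xw) : g * t * g⁻¹ = Φ.s := by
  have hp := hc.pairsT
  simp only [Cl.pairsOK, Bool.and_eq_true, Nat.beq_eq] at hp
  have h := hg 1 (by norm_num)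
  rwa [hp.1.2, Φ.e_one hc, Φ.e_two hc] at h

theorem genN_le {g : G} (hg : Φ.IsMat c g c.xw) : Φ.genN c g ≤ Φ.Nrm (c := c) := by
  refine (Subgroup.closure_le _).2 fun x hx => ?_
  rcases hx with ⟨v, -, rfl⟩ | rfl | rfl | rfl
  · exact Φ.mem_nrm_of_mat hc (Φ.isMat_e hc v)
  · exact Φ.mem_nrm_of_mat hc (Φ.gens_mat hc).1
  · exact Φ.mem_nrm_of_mat hc (Φ.gens_mat hc).2
  · exact Φ.mem_nrm_of_mat hc hg

theorem inBar_mul {X Y : Nat} (hX : c.inBar X = true) (hY : c.inBar Y = true) : c.inBar (mulM X Y) = true := by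
  have h := hc.lbarT
  simp only [Cl.lbarOK, Bool.and_eq_true, List.all_eq_true] at h
  obtain ⟨e, he, heX⟩ : ∃ e ∈ c.lbar, e.1 = X := by
    simpa [Cl.inBar, List.any_eq_true] using hX
  obtain ⟨⟨⟨⟨hwd, hm⟩, -⟩, -⟩, -⟩ := h.1.2 e he
  rw [← heX, ← Nat.eq_of_beq_eq_true hm]
  clear heX hm he
  generalize e.2 = wd at hwd ⊢
  induction wd with
  | nil =>
    obtain ⟨e', he', rfl⟩ : ∃ e' ∈ c.lbar, e'.1 = Y := by simpa [Cl.inBar, List.any_eq_true] using hY
    rw [mat2_nil]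
    have hlt : e'.1 < 65536 := Nat.eq_of_beq_eq_true (h.1.2 e' he').1.1.1.2 ▸ mat2_lt _ _
    rw [show mulM idM e'.1 = e'.1 from code_ext (mulM_lt _ _) hlt fun v _ => by
      rw [apM_mulM, apM_idM (apM_lt _ _)]]
    exact hY
  | cons a wd ih =>
    simp only [Cl.inL, List.all_cons, Bool.and_eq_true, decide_eq_true_eq] at hwd
    obtain ⟨e', he', hem⟩ : ∃ e' ∈ c.lbar, e'.1 = mulM (c.mat2 wd) Y := by
      simpa [Cl.inBar, List.any_eq_true] using ih (by simpa [Cl.inL] using hwd.2)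
    obtain ⟨⟨-, hA⟩, hB⟩ := h.1.2 e' he'
    rw [mat2_cons]
    have hassoc : ∀ A : Nat, mulM (mulM A (c.mat2 wd)) Y = mulM A e'.1 := fun A =>
      code_ext (mulM_lt _ _) (mulM_lt _ _) fun v _ => by simp only [hem, apM_mulM]
    rw [hassoc]
    have ha := hwd.1
    interval_cases a
    · exact hA
    · exact hB

theorem gen_cosets (hcl : c.closedOK = true) {g : G} (hg : Φ.IsMat c g c.xw) {x : G} (hx : x ∈ Φ.genN c g) :
    ∃ v L, v < 16 ∧ v ≠ 0 ∧ c.inBar L = true ∧ Φ.IsMat c x (mulM (c.repM v) L) := by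
  have hcl' := hcl
  simp only [Cl.closedOK, List.all_eq_true, List.mem_range, Bool.or_eq_true, Bool.and_eq_true,
    Nat.beq_eq, List.any_eq_true] at hcl'
  have step : ∀ (y : G) (Z : Nat), Φ.IsMat c y Z →
      Z ∈ [c.gens.getD 0 idM, c.gens.getD 1 idM, c.xw] → ∀ x : G,
      (∃ v L, v < 16 ∧ v ≠ 0 ∧ c.inBar L = true ∧ Φ.IsMat c x (mulM (c.repM v) L)) →
      ∃ v L, v < 16 ∧ v ≠ 0 ∧ c.inBar L = true ∧ Φ.IsMat c (y * x) (mulM (c.repM v) L) := by
    rintro y Z hy hZ x ⟨v, L, hv, hv0, hL, hxm⟩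
    obtain ⟨hr1, hall⟩ := (hcl' v hv).resolve_left hv0
    obtain ⟨e, he, heq⟩ := hall Z hZ
    set u := apM (mulM Z (c.repM v)) 1 with hu
    have hLl := (List.all_eq_true.1 (by
      have h := hc.lbarT
      simp only [Cl.lbarOK, Bool.and_eq_true] at h
      exact h.1.2) e he)
    simp only [Bool.and_eq_true, Nat.beq_eq] at hLl
    have hbe : c.inBar e.1 = true := List.any_eq_true.2 ⟨e, he, by simp⟩
    have hm : Φ.IsMat c (y * x) (mulM (c.repM u) (mulM e.1 L)) := by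
      intro w hw
      rw [IsMat.mul Φ hc hy hxm w hw, apM_mulM, apM_mulM, apM_mulM, apM_mulM, ← apM_mulM (c.repM u), heq,
        apM_mulM]
    have hfix : ∀ L', c.inBar L' = true → apM L' 1 = 1 := fun L' hL' => by
      obtain ⟨e', he', rfl⟩ : ∃ e' ∈ c.lbar, e'.1 = L' := by simpa [Cl.inBar, List.any_eq_true] using hL'
      have h := hc.lbarT
      simp only [Cl.lbarOK, Bool.and_eq_true, List.all_eq_true, Nat.beq_eq] at h
      exact (h.1.2 e' he').1.1.2
    refine ⟨u, mulM e.1 L, apM_lt _ _, fun h0 => ?_, inBar_mul hc hbe hL, hm⟩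
    have h1 := hm 1 (by norm_num)
    have e1 : apM (mulM (c.repM u) (mulM e.1 L)) 1 = 0 := by
      rw [apM_mulM, apM_mulM, hfix L hL, ← apM_mulM, heq]
      exact h0
    rw [e1, Φ.e_zero hc, mul_inv_eq_one, mul_eq_left, Φ.e_one hc] at h1
    exact Φ.t_ne_one hc h1
  have hbase : ∃ v L, v < 16 ∧ v ≠ 0 ∧ c.inBar L = true ∧ Φ.IsMat c (1 : G) (mulM (c.repM v) L) := by
    refine ⟨1, idM, by norm_num, by norm_num, ?_, fun w hw => ?_⟩
    · have h := hc.lbarT
      simp only [Cl.lbarOK, Bool.and_eq_true] at h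
      exact h.1.1
    · rw [apM_mulM, apM_idM hw, show c.repM 1 = idM from rfl, apM_idM hw]
      simp
  have mulcase : ∀ y ∈ ({x | Φ.InE c x} ∪ {Φ.F c.aW, Φ.F c.bW, g} : Set G), ∀ x : G,
      (∃ v L, v < 16 ∧ v ≠ 0 ∧ c.inBar L = true ∧ Φ.IsMat c x (mulM (c.repM v) L)) →
      ∃ v L, v < 16 ∧ v ≠ 0 ∧ c.inBar L = true ∧ Φ.IsMat c (y * x) (mulM (c.repM v) L) := by
    intro y hy x hx
    rcases hy with ⟨w, -, rfl⟩ | rfl | rfl | hyg
    · obtain ⟨v, L, hv, hv0, hL, hm⟩ := hx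
      refine ⟨v, L, hv, hv0, hL, fun u hu => ?_⟩
      rw [IsMat.mul Φ hc (Φ.isMat_e hc w) hm u hu, apM_mulM, apM_idM (apM_lt _ _)]
    · exact step _ _ (Φ.gens_mat hc).1 (by simp) x hx
    · exact step _ _ (Φ.gens_mat hc).2 (by simp) x hx
    · rw [show y = g from hyg]
      exact step _ _ hg (by simp) x hx
  induction hx using Subgroup.closure_induction_left with
  | one => exact hbase
  | mul_left y hy x _ ih => exact mulcase y hy x ih
  | inv_mul_cancel y hy x _ ih =>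
    have hp : ∀ n : Nat, ∃ v L, v < 16 ∧ v ≠ 0 ∧ c.inBar L = true ∧
        Φ.IsMat c (y ^ n * x) (mulM (c.repM v) L) := fun n => by
      induction n with
      | zero => simpa using ih
      | succ n ihn => rw [pow_succ', mul_assoc]; exact mulcase y hy _ ihn
    have := hp (orderOf y - 1)
    rwa [show y ^ (orderOf y - 1) = y⁻¹ from eq_inv_of_mul_eq_one_left (by
      rw [← pow_succ, Nat.sub_add_cancel (orderOf_pos y), pow_orderOf_eq_one])] at this

/-- An element of this subgroup centralizing the involution acts by the matrix group of the complement. -/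
theorem gen_stab (hcl : c.closedOK = true) {g0 : G} (hg0 : Φ.IsMat c g0 c.xw) {g : G} (hg : g ∈ Φ.genN c g0)
    (ht : g ∈ centralizer ({t} : Set G)) {X : Nat} (hX : X < 65536) (hm : Φ.IsMat c g X) :
    c.inBar X = true := by
  obtain ⟨v, L, hv, hv0, hL, hm'⟩ := Φ.gen_cosets hc hcl hg0 hg
  obtain ⟨hLlt, -⟩ := bar_elem hc hL
  have hXe := IsMat.unique Φ hc hX (mulM_lt _ _) hm hm'
  have hfix : apM L 1 = 1 := by
    obtain ⟨e', he', rfl⟩ : ∃ e' ∈ c.lbar, e'.1 = L := by simpa [Cl.inBar, List.any_eq_true] using hL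
    have h := hc.lbarT
    simp only [Cl.lbarOK, Bool.and_eq_true, List.all_eq_true, Nat.beq_eq] at h
    exact (h.1.2 e' he').1.1.2
  have hr := hcl
  simp only [Cl.closedOK, List.all_eq_true, List.mem_range, Bool.or_eq_true, Bool.and_eq_true,
    Nat.beq_eq] at hr
  have hrv := ((hr v hv).resolve_left hv0).1
  have h1 := hm 1 (by norm_num)
  rw [Φ.e_one hc, mem_centralizer_singleton_iff.1 ht, mul_inv_cancel_right, hXe, apM_mulM, hfix, hrv] at h1
  obtain rfl : v = 1 := (Φ.e_inj hc (by norm_num) hv ((Φ.e_one hc).trans h1)).symm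
  rw [hXe, show c.repM 1 = idM from rfl,
    show mulM idM L = L from code_ext (mulM_lt _ _) hLlt fun w _ => by rw [apM_mulM, apM_idM (apM_lt _ _)]]
  exact hL

theorem nrm_cent_bar (hb : Big Φ c) (hcl : c.closedOK = true) {g0 : G} (hg0 : Φ.IsMat c g0 c.xw)
    {g : G} (hg : g ∈ Φ.genN c g0) (ht : g ∈ centralizer ({t} : Set G)) :
    ∃ v wd, v < 16 ∧ Cl.inL wd = true ∧ g = Φ.e c v * Φ.F (c.sub2 wd) := by
  obtain ⟨X, hX, hm⟩ := Φ.exists_mat_of_mem hc (Φ.genN_le hc hg0 hg)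
  obtain ⟨-, wd, hwd, he⟩ := bar_elem hc (Φ.gen_stab hc hcl hg0 hg ht hX hm)
  have hsub := Φ.isMat_sub2 hc wd hwd
  rw [he] at hsub
  obtain ⟨v, hv, e⟩ : Φ.InE c (g * (Φ.F (c.sub2 wd))⁻¹) := hb.cE _ fun u hu => by
    obtain ⟨w, hw, ew⟩ := (Φ.mem_nrm_of_mat hc hsub).2 u hu
    have h1 := hm w hw
    have h2 := hsub w hw
    have e3 : Φ.F (c.sub2 wd) * Φ.e c w * (Φ.F (c.sub2 wd))⁻¹ = Φ.e c u := by rw [← ew]; group
    rw [e3] at h2
    rw [← h2] at h1
    have e4 : Φ.e c w = (Φ.F (c.sub2 wd))⁻¹ * Φ.e c u * Φ.F (c.sub2 wd) := ew.symm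
    rw [e4] at h1
    calc g * (Φ.F (c.sub2 wd))⁻¹ * Φ.e c u
        = g * ((Φ.F (c.sub2 wd))⁻¹ * Φ.e c u * Φ.F (c.sub2 wd)) * g⁻¹ * (g * (Φ.F (c.sub2 wd))⁻¹) := by group
      _ = Φ.e c u * (g * (Φ.F (c.sub2 wd))⁻¹) := by rw [h1]
  exact ⟨v, wd, hv, hwd, by rw [← e]; group⟩

theorem index_cent {g1 : G} (hg0 : Φ.IsMat c g1 c.xw) :
    ((centralizer ({t} : Set G)).subgroupOf (Φ.genN c g1)).index = 15 := by
  set N := Φ.genN c g1 with hN
  have h1 : g1 * t * g1⁻¹ = Φ.s := Φ.conj_t hc hg0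
  set U := (centralizer ({t} : Set G)).subgroupOf N
  have hex : ∀ g : N, ∃ v : {v : Fin 16 // v ≠ 0}, (g : G) * t * (g : G)⁻¹ = Φ.e c v.1.val := fun g => by
    obtain ⟨v, hv, e⟩ := (Φ.genN_le hc hg0 g.2).1 1 (by norm_num)
    rw [Φ.e_one hc] at e
    refine ⟨⟨⟨v, hv⟩, fun hh => ?_⟩, e⟩
    obtain rfl : v = 0 := congrArg Fin.val hh
    rw [Φ.e_zero hc, mul_inv_eq_one, mul_eq_left] at e
    exact Φ.t_ne_one hc e
  choose f hf using hex
  let φ : N ⧸ U → {v : Fin 16 // v ≠ 0} := fun q => f q.out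
  have hinj : Function.Injective φ := fun q q' e => by
    have e1 := hf q.out
    have e2 := hf q'.out
    rw [show f q.out = f q'.out from e, ← e2] at e1
    rw [← q.out_eq, ← q'.out_eq]
    refine QuotientGroup.eq.2 (Subgroup.mem_subgroupOf.2 (mem_centralizer_singleton_iff.2 ?_))
    rw [Subgroup.coe_mul, Subgroup.coe_inv]
    calc (q.out : G)⁻¹ * (q'.out : G) * t
        = (q.out : G)⁻¹ * ((q'.out : G) * t * (q'.out : G)⁻¹) * (q'.out : G) := by group
      _ = t * ((q.out : G)⁻¹ * (q'.out : G)) := by rw [← e1]; group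
  have hsurj : Function.Surjective φ := by
    rintro ⟨v, hv0⟩
    obtain ⟨g, hg, e⟩ : ∃ g ∈ N, g * t * g⁻¹ = Φ.e c v.val := by
      rcases eq_or_ne v.val 1 with h | h
      · exact ⟨1, one_mem _, by rw [h, Φ.e_one hc]; simp⟩
      · have h0 : v.val ≠ 0 := fun hh => hv0 (Fin.ext hh)
        obtain ⟨-, wd, hwd, hm⟩ := exists_move hc v.2 (by omega)
        have hl := Φ.isMat_sub2 hc wd hwd
        refine ⟨Φ.F (c.sub2 wd) * g1, mul_mem (Φ.sub2_genN c g1 wd) (Φ.self_genN c g1), ?_⟩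
        have h2 := hl 2 (by norm_num)
        rw [hm, Φ.e_two hc, ← h1] at h2
        rw [← h2]
        group
    refine ⟨QuotientGroup.mk ⟨g, hg⟩, Subtype.ext (Fin.ext ?_)⟩
    obtain ⟨u, hu⟩ := QuotientGroup.mk_out_eq_mul U (⟨g, hg⟩ : N)
    refine Φ.e_inj hc (Fin.isLt _) (Fin.isLt _) ?_
    rw [← hf, hu]
    have hu' : (u.1 : G) * t = t * (u.1 : G) := mem_centralizer_singleton_iff.1 (Subgroup.mem_subgroupOf.1 u.2)
    rw [Subgroup.coe_mul, ← e]
    calc g * (u.1 : G) * t * (g * (u.1 : G))⁻¹ = g * ((u.1 : G) * t) * (u.1 : G)⁻¹ * g⁻¹ := by group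
      _ = g * t * g⁻¹ := by rw [hu']; group
  rw [Subgroup.index_eq_card, Nat.card_congr (Equiv.ofBijective φ ⟨hinj, hsurj⟩)]
  rw [Nat.card_eq_fintype_card]
  rfl

end Emb

end CfsgLib.McLEmb
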