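import Cfsg.Agent.McLEmb.Letter

/-!
# The last letter for the two classes
-/

set_option autoImplicit false

namespace CfsgLib.McLEmb

open CfsgLib.Coset CfsgLib.McLUniq

namespace Emb

variable {G : Type*} [Group G] [Finite G] {t : G} (Φ : Emb t)

/-- The last letter from the first class. -/
theorem exists_letter_one (hb : Big Φ one) {g1 : G} (hg1 : ∀ v, v < 16 → Φ.InE one (g1 * Φ.e one v * g1⁻¹))
    (h1 : g1 * t * g1⁻¹ = Φ.s) (h2 : g1 * Φ.s * g1⁻¹ = t) :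
    ∃ w : G, (∀ r ∈ one.rls, ev (Φ.LG ++ [w]) r = 1) ∧ w * w = 1 ∧ w * t * w⁻¹ = Φ.s ∧
      w * Φ.s * w⁻¹ = t ∧ (∀ v, v < 16 → w * Φ.e one v * w⁻¹ = Φ.e one (apM one.xw v)) ∧
      ∀ i, i < dGen.length → w * Φ.F (dGen.getD i []) * w = Φ.F (dImg.getD i []) :=
  Φ.exists_letter oneOK hb one_closed one_relMat dGen_one hg1 h1 h2

/-- The last letter from the second class. -/
theorem exists_letter_two (hb : Big Φ two) {g1 : G} (hg1 : ∀ v, v < 16 → Φ.InE two (g1 * Φ.e two v * g1⁻¹))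
    (h1 : g1 * t * g1⁻¹ = Φ.s) (h2 : g1 * Φ.s * g1⁻¹ = t) :
    ∃ w : G, (∀ r ∈ two.rls, ev (Φ.LG ++ [w]) r = 1) ∧ w * w = 1 ∧ w * t * w⁻¹ = Φ.s ∧
      w * Φ.s * w⁻¹ = t ∧ (∀ v, v < 16 → w * Φ.e two v * w⁻¹ = Φ.e two (apM two.xw v)) ∧
      ∀ i, i < dGen.length → w * Φ.F (dGen.getD i []) * w = Φ.F (dImg.getD i []) :=
  Φ.exists_letter twoOK hb two_closed two_relMat dGen_two hg1 h1 h2

end Emb

end CfsgLib.McLEmb
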