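import Cfsg.Agent.McLEmb.Local
import Cfsg.Agent.McLEmb.Cosets

/-!
# The normalizer of the elementary group and an element acting like the last letter
-/

set_option autoImplicit false
set_option maxRecDepth 100000
set_option linter.unusedSectionVars false

namespace CfsgLib.McLEmb

open Subgroup CfsgLib.Coset CfsgLib.McLUniq

namespace Emb

variable {G : Type*} [Group G] [Finite G] {t : G} (Φ : Emb t) {c : Cl} (hc : ClOK c)

/-- The global facts used about the elementary group of a class. -/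
structure Big (Φ : Emb t) (c : Cl) : Prop where
  cE : ∀ g, (∀ v, v < 16 → g * Φ.e c v = Φ.e c v * g) → Φ.InE c g
  real : ∀ M, M < 65536 → apM M 1 = 1 → apM M 2 = 2 → (∀ v, v < 16 → apM M v = 0 → v = 0) →
    ∃ k, Commute k t ∧ Φ.IsMat c k M

/-- The group of a class. -/
noncomputable def Esub : Subgroup G where
  carrier := {g | Φ.InE c g}
  one_mem' := ⟨0, by norm_num, (Φ.e_zero hc).symm⟩
  mul_mem' := by
    rintro a b ⟨v, hv, rfl⟩ ⟨u, hu, rfl⟩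
    exact ⟨v ^^^ u, Nat.xor_lt_two_pow (n := 4) hv hu, (Φ.e_add hc v u).symm⟩
  inv_mem' := by
    rintro a ⟨v, hv, rfl⟩
    exact ⟨v, hv, Φ.e_inv hc v⟩

/-- Its normalizer. -/
noncomputable def Nrm : Subgroup G where
  carrier := {g | (∀ v, v < 16 → Φ.InE c (g * Φ.e c v * g⁻¹)) ∧ ∀ v, v < 16 → Φ.InE c (g⁻¹ * Φ.e c v * g)}
  one_mem' := ⟨fun v hv => ⟨v, hv, by simp⟩, fun v hv => ⟨v, hv, by simp⟩⟩
  mul_mem' := by
    rintro a b ⟨ha, ha'⟩ ⟨hb, hb'⟩
    refine ⟨fun v hv => ?_, fun v hv => ?_⟩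
    · obtain ⟨u, hu, e⟩ := hb v hv
      obtain ⟨w, hw, e'⟩ := ha u hu
      exact ⟨w, hw, by rw [← e', ← e]; group⟩
    · obtain ⟨u, hu, e⟩ := ha' v hv
      obtain ⟨w, hw, e'⟩ := hb' u hu
      exact ⟨w, hw, by rw [← e', ← e]; group⟩
  inv_mem' := by
    rintro a ⟨ha, ha'⟩
    exact ⟨fun v hv => by rw [inv_inv]; exact ha' v hv, fun v hv => by rw [inv_inv]; exact ha v hv⟩

include hc

theorem bar_elem {X : Nat} (hX : c.inBar X = true) : X < 65536 ∧ ∃ wd, Cl.inL wd = true ∧ c.mat2 wd = X := by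
  have h := hc.lbarT
  simp only [Cl.lbarOK, Bool.and_eq_true, List.all_eq_true] at h
  obtain ⟨e, he, rfl⟩ : ∃ e ∈ c.lbar, e.1 = X := by simpa [Cl.inBar, List.any_eq_true] using hX
  obtain ⟨⟨⟨⟨hwd, hm⟩, -⟩, -⟩, -⟩ := h.1.2 e he
  exact ⟨Nat.eq_of_beq_eq_true hm ▸ mat2_lt _ _, e.2, hwd, Nat.eq_of_beq_eq_true hm⟩

/-- An element of the complement moving a vector to the second one, and one moving the second one there. -/
theorem exists_move {v : Nat} (hv : v < 16) (h2 : 2 ≤ v) :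
    (∃ wd, Cl.inL wd = true ∧ apM (c.mat2 wd) v = 2) ∧ ∃ wd, Cl.inL wd = true ∧ apM (c.mat2 wd) 2 = v := by
  have h := hc.lbarT
  simp only [Cl.lbarOK, Bool.and_eq_true, List.all_eq_true, List.mem_range, Bool.or_eq_true,
    decide_eq_true_eq, List.any_eq_true, Nat.beq_eq] at h
  obtain ⟨⟨e, he, hev⟩, ⟨e', he', hev'⟩⟩ := (h.2 v hv).resolve_left (by omega)
  exact ⟨⟨e.2, (h.1.2 e he).1.1.1.1, (h.1.2 e he).1.1.1.2 ▸ hev⟩,
    ⟨e'.2, (h.1.2 e' he').1.1.1.1, (h.1.2 e' he').1.1.1.2 ▸ hev'⟩⟩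

theorem mem_nrm_of_conj {g : G} (h : ∀ v, v < 16 → Φ.InE c (g * Φ.e c v * g⁻¹)) : g ∈ Φ.Nrm (c := c) := by
  refine ⟨h, fun v hv => ?_⟩
  choose f hf he using h
  let F : Fin 16 → Fin 16 := fun u => ⟨f u.val u.2, hf _ u.2⟩
  have hF : Function.Injective F := fun a b e => by
    have e' : f a.val a.2 = f b.val b.2 := congrArg Fin.val e
    have : g * Φ.e c a.val * g⁻¹ = g * Φ.e c b.val * g⁻¹ := by rw [he _ a.2, he _ b.2, e']
    exact Fin.ext (Φ.e_inj hc a.2 b.2 (mul_left_cancel (mul_right_cancel this)))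
  obtain ⟨u, hu⟩ := (Finite.injective_iff_surjective.1 hF) ⟨v, hv⟩
  have e' : f u.val u.2 = v := congrArg Fin.val hu
  refine ⟨u.val, u.2, ?_⟩
  rw [← e', ← he _ u.2]
  group

theorem mem_nrm_of_mat {g : G} {X : Nat} (h : Φ.IsMat c g X) : g ∈ Φ.Nrm (c := c) :=
  Φ.mem_nrm_of_conj hc fun v hv => ⟨_, apM_lt _ _, h v hv⟩

theorem exists_mat_of_mem {g : G} (h : g ∈ Φ.Nrm (c := c)) : ∃ X, X < 65536 ∧ Φ.IsMat c g X :=
  Φ.exists_mat hc h.1

theorem pair_nrm {g : G} {p : Nat × Nat} (h : Φ.Pair c g p) : g ∈ Φ.Nrm (c := c) :=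
  Φ.mem_nrm_of_mat hc (Pair.isMat Φ hc h)

theorem t_mem_E : Φ.InE c t := ⟨1, by norm_num, (Φ.e_one hc).symm⟩

include Φ in
theorem t_ne_one : t ≠ 1 := fun h => by
  have := Φ.e_eq_one hc (v := 1) (by norm_num) (by rw [Φ.e_one hc, h])
  omega

/-- Some element of the normalizer acts like the last letter. -/
theorem exists_act_xw (hb : Big Φ c) {g1 : G} (hg1 : ∀ v, v < 16 → Φ.InE c (g1 * Φ.e c v * g1⁻¹))
    (h1 : g1 * t * g1⁻¹ = Φ.s) (h2 : g1 * Φ.s * g1⁻¹ = t) : ∃ g, Φ.IsMat c g c.xw := by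
  have hN := Φ.mem_nrm_of_conj hc hg1
  obtain ⟨X, -, hX⟩ := Φ.exists_mat_of_mem hc hN
  obtain ⟨Y, -, hY⟩ := Φ.exists_mat_of_mem hc (inv_mem hN)
  have hYX : ∀ v, v < 16 → apM Y (apM X v) = v := fun v hv => by
    refine Φ.e_inj hc (apM_lt _ _) hv ?_
    rw [← hY _ (apM_lt _ _), ← hX v hv]
    group
  have hX1 : apM X 1 = 2 := Φ.e_inj hc (apM_lt _ _) (by norm_num)
    (by rw [← hX 1 (by norm_num), Φ.e_one hc, Φ.e_two hc, h1])
  have hX2 : apM X 2 = 1 := Φ.e_inj hc (apM_lt _ _) (by norm_num)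
    (by rw [← hX 2 (by norm_num), Φ.e_one hc, Φ.e_two hc, h2])
  have hY1 : apM Y 1 = 2 := by rw [← hX2]; exact hYX 2 (by norm_num)
  have hY2 : apM Y 2 = 1 := by rw [← hX1]; exact hYX 1 (by norm_num)
  have hp := hc.pairsT
  simp only [Cl.pairsOK, Bool.and_eq_true, Nat.beq_eq] at hp
  obtain ⟨⟨⟨-, hww⟩, hx1⟩, hx2⟩ := hp
  have hxx : ∀ w, w < 16 → apM c.xw (apM c.xw w) = w := fun w hw => by
    have e := congrArg Prod.snd (eq_of_peq hww)
    simp only [Cl.pev, List.foldr_cons, List.foldr_nil, pmul] at e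
    have e' := congrArg (fun Z => apM Z w) e
    simpa [Cl.letP, apM_mulM, apM_idM hw] using e'
  have apM_zero : ∀ Z, apM Z 0 = 0 := fun Z => by simp [apM, pickB]
  obtain ⟨k, hkt, hk⟩ := hb.real (mulM c.xw Y) (mulM_lt _ _) (by rw [apM_mulM, hY1, hx2])
    (by rw [apM_mulM, hY2, hx1]) (fun v hv h0 => by
      rw [apM_mulM] at h0
      have h3 : apM Y v = 0 := by
        have := congrArg (apM c.xw) h0
        rwa [hxx _ (apM_lt _ _), apM_zero] at this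
      refine Φ.e_eq_one hc hv ?_
      have h4 := hY v hv
      rw [h3, Φ.e_zero hc, mul_inv_eq_one, mul_eq_left] at h4
      exact h4)
  refine ⟨k * g1, fun v hv => ?_⟩
  have h3 := IsMat.mul Φ hc hk hX v hv
  rwa [apM_mulM, apM_mulM, hYX v hv] at h3

end Emb

end CfsgLib.McLEmb
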